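import Cfsg.Agent.Lib.Elem70.RootInvolutions

/-!
# Root involutions: elementary facts

Adjacency means: different members with product of odd order.
-/

set_option autoImplicit false
set_option linter.unusedSectionVars false

namespace Cfsg.Agent.Lib.RootInv12

open Cfsg.Agent.Lib.Elem70.RootInvolutions

variable {G : Type*} [Group G] {D : Set G}

theorem conj_conj (g h y : G) : g * (h * y * h⁻¹) * g⁻¹ = g * h * y * (g * h)⁻¹ := by group

theorem conj_injective (g : G) : Function.Injective fun y : G => g * y * g⁻¹ := fun y y' h => by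
  simpa using h

theorem conj_mul' (g a b : G) : g * (a * b) * g⁻¹ = g * a * g⁻¹ * (g * b * g⁻¹) := by group

theorem commute_conj {a b : G} (h : Commute a b) (g : G) :
    Commute (g * a * g⁻¹) (g * b * g⁻¹) := by
  show g * a * g⁻¹ * (g * b * g⁻¹) = g * b * g⁻¹ * (g * a * g⁻¹)
  rw [← conj_mul', ← conj_mul', h.eq]

theorem odd_pow_eq {z : G} (hz : Odd (orderOf z)) {i : ℕ} (h : z ^ (2 ^ i) = 1) : z = 1 := by
  have hd := orderOf_dvd_of_pow_eq_one h
  have hcop : Nat.Coprime (orderOf z) (2 ^ i) :=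
    Nat.Coprime.pow_right i (Nat.coprime_two_right.mpr hz)
  exact orderOf_eq_one_iff.mp (Nat.eq_one_of_dvd_coprimes hcop dvd_rfl hd)

variable (hD : Cfsg.IsRootInvolutionSet D)
include hD

theorem adj_conj {a b : G} (h : Cfsg.OddAdj D a b) (g : G) :
    Cfsg.OddAdj D (g * a * g⁻¹) (g * b * g⁻¹) := by
  obtain ⟨ha, hb, hne, ho⟩ := h
  refine ⟨hD.conj_mem a ha g, hD.conj_mem b hb g, fun e => hne (conj_injective g e), ?_⟩
  rwa [← conj_mul', show g * (a * b) * g⁻¹ = MulAut.conj g (a * b) from rfl, MulEquiv.orderOf_eq]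

theorem adj_conj_iff {a b : G} (g : G) :
    Cfsg.OddAdj D (g * a * g⁻¹) (g * b * g⁻¹) ↔ Cfsg.OddAdj D a b := by
  refine ⟨fun h => ?_, fun h => adj_conj hD h g⟩
  have := adj_conj hD h g⁻¹
  rw [conj_conj, conj_conj] at this
  simpa using this

theorem not_adj_of_pow_four {a b : G} (h : (a * b) ^ 4 = 1) : ¬ Cfsg.OddAdj D a b := by
  rintro ⟨-, hb, hne, ho⟩
  have h1 := odd_pow_eq ho (i := 2) h
  rw [mul_eq_one_iff_eq_inv, inv_self hD hb] at h1
  exact hne h1

theorem not_adj_of_commute {a b : G} (hc : Commute a b) : ¬ Cfsg.OddAdj D a b := fun h => by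
  refine not_adj_of_pow_four hD ?_ h
  rw [hc.mul_pow, show 4 = 2 * 2 from rfl, pow_mul, pow_mul, sq a, sq b, mul_self hD h.1,
    mul_self hD h.2.1, one_pow, one_mul]

theorem conj_self_comm {a b : G} (ha : a ∈ D) (hb : b ∈ D) (h : ¬ Cfsg.OddAdj D a b) :
    Commute b (a * b * a⁻¹) := by
  have hp := pow_four_of_not_adj hD ha hb h
  have hs := sq_comm_of_pow_four (mul_self hD ha) (mul_self hD hb) hp
  show b * (a * b * a⁻¹) = a * b * a⁻¹ * b
  rw [inv_self hD ha]
  simp only [sq, mul_assoc] at hs ⊢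
  exact hs

/-- For non-adjacent members, the square of the product is `1` or again a member. -/
theorem sq_eq_or_mem {a b : G} (ha : a ∈ D) (hb : b ∈ D) (h : ¬ Cfsg.OddAdj D a b) :
    (a * b) ^ 2 = 1 ∨ (a * b) ^ 2 ∈ D := by
  rcases hD.pair a ha b hb with hc | ho | ⟨-, hm⟩
  · left
    rw [(show Commute a b from hc).mul_pow, sq, sq, mul_self hD ha, mul_self hD hb, one_mul]
  · left
    by_cases hab : a = b
    · rw [hab, mul_self hD hb, one_pow]
    · exact absurd ⟨ha, hb, hab, ho⟩ h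
  · exact Or.inr hm

/-- A member commuting with neither kind: product of order four. -/
theorem four_of_not_adj {a b : G} (ha : a ∈ D) (hb : b ∈ D) (h : ¬ Cfsg.OddAdj D a b)
    (hc : ¬ Commute a b) : orderOf (a * b) = 4 ∧ (a * b) ^ 2 ∈ D := by
  rcases hD.pair a ha b hb with hc' | ho | hf
  · exact absurd hc' hc
  · refine absurd ⟨ha, hb, fun e => hc (by rw [e]), ho⟩ h
  · exact hf

/-- The basic restriction: if `x` is adjacent to `c`, a nontrivial element of order two
commuting with both never has product with `c` in `D`. -/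
theorem eq_one_of_common {x c v : G} (h : Cfsg.OddAdj D x c) (hv : v * v = 1)
    (hvx : Commute v x) (hvc : Commute v c) (hm : v * c ∈ D) : v = 1 := by
  obtain ⟨hx, hc, hne, ho⟩ := h
  by_contra hv1
  have hv2 : orderOf v = 2 := orderOf_eq_prime (by rw [sq, hv]) hv1
  have hord : orderOf (x * (v * c)) = 2 * orderOf (x * c) := by
    rw [← mul_assoc, ← hvx.eq, mul_assoc, (hvx.mul_right hvc).orderOf_mul_eq_mul_orderOf_of_coprime
      (by rw [hv2]; exact Nat.coprime_two_left.mpr ho), hv2]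
  have hn : orderOf (x * c) ≠ 1 := fun e => hne (by
    rwa [orderOf_eq_one_iff, mul_eq_one_iff_eq_inv, inv_self hD hc] at e)
  rcases hD.pair x hx (v * c) hm with h1 | h1 | ⟨h1, -⟩
  · have h2 : (x * (v * c)) ^ 2 = 1 := by
      rw [(show Commute x (v * c) from h1).mul_pow, sq, sq, mul_self hD hx, mul_self hD hm, one_mul]
    have h3 := orderOf_dvd_of_pow_eq_one h2
    rw [hord] at h3
    have h4 := Nat.le_of_dvd two_pos h3
    obtain ⟨k, hk⟩ := ho
    omega
  · rw [hord] at h1
    exact Nat.not_even_iff_odd.mpr h1 (even_two_mul _)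
  · rw [hord] at h1
    obtain ⟨k, hk⟩ := ho
    omega

/-- Adjacent members are conjugate. -/
theorem exists_conj_of_adj {a x : G} (h : Cfsg.OddAdj D a x) : ∃ g, x = g * a * g⁻¹ := by
  obtain ⟨ha, hx, -, ho⟩ := h
  obtain ⟨k, hk⟩ := ho
  set z := a * x with hz
  have hinv : a * z * a⁻¹ = z⁻¹ := by
    rw [hz, mul_inv_rev, inv_self hD ha, inv_self hD hx, ← mul_assoc, mul_self hD ha, one_mul]
  refine ⟨z ^ k, ?_⟩
  have e1 : a * (z ^ k)⁻¹ = z ^ k * a := by
    have : a * z ^ k * a⁻¹ = (z ^ k)⁻¹ := by rw [← conj_pow, hinv, inv_pow]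
    rw [← this, inv_self hD ha]
    simp only [← mul_assoc, mul_self hD ha, one_mul]
  rw [mul_assoc, e1, ← mul_assoc, ← pow_add]
  have e2 : z ^ (k + k) * z = 1 := by
    rw [← pow_succ, show k + k + 1 = orderOf z by omega, pow_orderOf_eq_one]
  rw [eq_inv_of_mul_eq_one_left e2, hz, mul_inv_rev, inv_self hD ha, inv_self hD hx, mul_assoc,
    mul_self hD ha, mul_one]

/-- A connected odd graph makes `D` a single class. -/
theorem exists_conj_of_connected (hc : Cfsg.IsConnectedSet (Cfsg.OddAdj D) D) :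
    ∀ a ∈ D, ∀ b ∈ D, ∃ g, b = g * a * g⁻¹ := by
  intro a ha b hb
  induction hc a ha b hb with
  | refl => exact ⟨1, by simp⟩
  | tail _ h ih =>
    obtain ⟨g, hg⟩ := ih h.1
    obtain ⟨k, hk⟩ := exists_conj_of_adj hD h
    exact ⟨k * g, by rw [hk, hg, conj_conj]⟩

end Cfsg.Agent.Lib.RootInv12
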