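import Cfsg.Agent.Lib.RootInv12.Basic

/-!
# Root involutions: the orbit lemma

Let `u, c` be commuting members with `u * c ∈ D` and `x` a member adjacent to `c`, not adjacent to
`u`. The conjugates of `u` under `z = x * c` commute with each other and generate an elementary
abelian group on which `z` has no fixed element.
-/

set_option autoImplicit false
set_option linter.unusedSectionVars false

namespace Cfsg.Agent.Lib.RootInv12.Orbit

open Cfsg.Agent.Lib.Elem70.RootInvolutions

variable {G : Type*} [Group G]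

/-- In the group of two commuting involutions and a third one with all orders dividing four,
a certain commutator is inverted by the third. -/
theorem comm_of_square {a u w : G} (ha : a * a = 1) (hu : u * u = 1) (hw : w * w = 1)
    (huw : u * w = w * u) (hau : (a * u) ^ 4 = 1) (haw : (a * w) ^ 4 = 1)
    (haz : (a * (u * w)) ^ 4 = 1)
    (hh : (w * (a * u) ^ 2 * w * (a * u) ^ 2) * (w * (a * u) ^ 2 * w * (a * u) ^ 2) = 1) :
    Commute a (w * (a * u) ^ 2 * w * (a * u) ^ 2) := by
  have aa : ∀ y, a * (a * y) = y := fun y => by rw [← mul_assoc, ha, one_mul]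
  have uu : ∀ y, u * (u * y) = y := fun y => by rw [← mul_assoc, hu, one_mul]
  have ww : ∀ y, w * (w * y) = y := fun y => by rw [← mul_assoc, hw, one_mul]
  have b1 : ∀ y, a * (u * (a * (u * y))) = u * (a * (u * (a * y))) := fun y => by
    have h := sq_comm_of_pow_four ha hu hau
    have := congrArg (· * y) h
    simpa only [sq, mul_assoc] using this.symm
  have b2 : ∀ y, a * (w * (a * (w * y))) = w * (a * (w * (a * y))) := fun y => by
    have h := sq_comm_of_pow_four ha hw haw
    have := congrArg (· * y) h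
    simpa only [sq, mul_assoc] using this.symm
  have wu : ∀ y, w * (u * y) = u * (w * y) := fun y => by
    rw [← mul_assoc, ← huw, mul_assoc]
  set h := w * (a * u) ^ 2 * w * (a * u) ^ 2 with hdef
  have e1 : h * a = w * (a * (u * (a * (w * (a * u))))) := by
    have s1 : h * a = w * (a * (u * (a * (u * (w * (a * (u * (a * (u * a))))))))) := by
      simp only [hdef, sq, mul_assoc]
    rw [s1, b1 a, ha, mul_one, wu, uu]
  have e2 : h * a * (h * a) = 1 := by
    rw [e1]
    have s1 : w * (a * (u * (a * (w * (a * u))))) * (w * (a * (u * (a * (w * (a * u)))))) =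
        w * (a * (u * (a * (w * (a * (u * (w * (a * (u * (a * (w * (a * u)))))))))))) := by
      simp only [mul_assoc]
    rw [s1, ← wu (a * (u * (a * (w * (a * u))))), b2, b1, aa]
    have s2 : w * (a * (u * (w * (a * (w * (u * (a * (u * (w * (a * u)))))))))) =
        w * ((a * (u * w)) ^ 3 * a) * u := by
      rw [wu]
      simp only [pow_succ, pow_zero, one_mul, mul_assoc]
    have e3 : (a * (u * w)) ^ 3 * a = u * w := by
      have hzz : (u * w) * (u * w) = 1 := by
        rw [mul_assoc, wu, uu, hw]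
      calc (a * (u * w)) ^ 3 * a = (a * (u * w)) ^ 3 * (a * (u * w)) * (u * w) := by
            rw [← mul_assoc ((a * (u * w)) ^ 3), mul_assoc _ (u * w), hzz, mul_one]
        _ = u * w := by rw [← pow_succ, haz, one_mul]
    rw [s2, e3, huw, ← mul_assoc w w u, hw, one_mul, hu]
  show a * h = h * a
  rw [eq_inv_of_mul_eq_one_left e2, mul_inv_rev, inv_eq_of_mul_eq_one_right ha,
    inv_eq_of_mul_eq_one_right hh]

variable {D : Set G} {x c u : G}

/-- The rotation. -/
def cj (x c : G) (k : ℤ) (v : G) : G := (x * c) ^ k * v * ((x * c) ^ k)⁻¹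

/-- The group generated by the orbit. -/
def orb (x c u : G) : Subgroup G := Subgroup.closure (Set.range fun k : ℤ => cj x c k u)

theorem cj_zero (v : G) : cj x c 0 v = v := by simp [cj]

theorem cj_cj (i k : ℤ) (v : G) : cj x c i (cj x c k v) = cj x c (i + k) v := by
  rw [cj, cj, conj_conj, ← zpow_add]; rfl

theorem cj_mul (i : ℤ) (v w : G) : cj x c i (v * w) = cj x c i v * cj x c i w := conj_mul' _ _ _

theorem commute_cj {v w : G} (h : Commute v w) (i : ℤ) : Commute (cj x c i v) (cj x c i w) :=
  commute_conj h _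

/-- The product over a symmetric interval of rotations. -/
def sym (x c v : G) : ℕ → G
  | 0 => v
  | j + 1 => sym x c v j * (cj x c (j + 1) v * cj x c (-(j + 1)) v)

/-- The hypotheses of the orbit lemma. -/
structure Cfg (D : Set G) (x c u : G) : Prop where
  hD : Cfsg.IsRootInvolutionSet D
  hu : u ∈ D
  comm : Commute u c
  hm : u * c ∈ D
  adj : Cfsg.OddAdj D x c
  nadj : ¬ Cfsg.OddAdj D x u

variable (h : Cfg D x c u)
include h

theorem c_self : c * c = 1 := mul_self h.hD h.adj.2.1
theorem x_self : x * x = 1 := mul_self h.hD h.adj.1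

theorem conj_rot : c * (x * c) * c⁻¹ = (x * c)⁻¹ := by
  rw [inv_self h.hD h.adj.2.1, mul_inv_rev, inv_self h.hD h.adj.2.1, inv_self h.hD h.adj.1,
    mul_assoc, mul_assoc, c_self h, mul_one]

theorem conj_rot_zpow (k : ℤ) : c * (x * c) ^ k * c⁻¹ = (x * c) ^ (-k) := by
  rw [← conj_zpow, conj_rot h, inv_zpow, zpow_neg]

theorem c_cj (k : ℤ) : c * cj x c k u * c⁻¹ = cj x c (-k) u := by
  have e : c * u * c⁻¹ = u := by rw [← h.comm.eq, mul_inv_cancel_right]
  rw [cj, conj_mul', conj_mul', conj_rot_zpow h, e]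
  rw [show c * ((x * c) ^ k)⁻¹ * c⁻¹ = ((x * c) ^ (-k))⁻¹ by
    rw [← conj_rot_zpow h]; group]
  rfl

theorem cj_mem (k : ℤ) {v : G} (hv : v ∈ D) : cj x c k v ∈ D := h.hD.conj_mem v hv _

theorem refl_mem (k : ℤ) : (x * c) ^ k * c ∈ D := by
  obtain ⟨m, hm⟩ := h.adj.2.2.2
  have e : (x * c) ^ k = (x * c) ^ (k * (m + 1) + k * (m + 1)) := by
    rw [show k * ((m : ℤ) + 1) + k * (m + 1) = k + k * ((orderOf (x * c) : ℕ) : ℤ) by
      rw [hm]; push_cast; ring, zpow_add, mul_comm k, zpow_mul, zpow_natCast, pow_orderOf_eq_one,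
      one_zpow, mul_one]
  have e2 : ((x * c) ^ (k * (m + 1))) * c * ((x * c) ^ (k * (m + 1)))⁻¹ = (x * c) ^ k * c := by
    rw [e, zpow_add, mul_assoc, mul_assoc]
    congr 1
    have := conj_rot_zpow h (-(k * (m + 1)))
    rw [neg_neg, zpow_neg] at this
    exact mul_inv_eq_iff_eq_mul.mp this
  rw [← e2]
  exact h.hD.conj_mem c h.adj.2.1 _

theorem refl_conj (k : ℤ) : (x * c) ^ k * c * u * ((x * c) ^ k * c)⁻¹ = cj x c k u := by
  rw [cj, mul_assoc ((x * c) ^ k) c u, ← h.comm.eq]
  group

theorem refl_sq (k : ℤ) : ((x * c) ^ k * c * u) ^ 2 = cj x c k u * u := by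
  rw [sq, ← refl_conj h k, inv_self h.hD (refl_mem h k)]
  simp only [mul_assoc]

theorem nadj_refl (k : ℕ) : ¬ Cfsg.OddAdj D ((x * c) ^ (k : ℤ) * c) u := by
  induction k with
  | zero =>
    rw [Nat.cast_zero, zpow_zero, one_mul]
    exact not_adj_of_commute h.hD h.comm.symm
  | succ k ih =>
    have h1 : (x * c) ^ (1 : ℤ) * c = x := by rw [zpow_one, mul_assoc, c_self h, mul_one]
    by_cases hk : k = 0
    · subst hk; rw [show (((0 : ℕ) + 1 : ℕ) : ℤ) = 1 from rfl, h1]; exact h.nadj
    intro hadj
    set w := cj x c ((k + 1 : ℕ) : ℤ) u with hwdef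
    set u1 := cj x c 1 u with hu1
    have hu1D : u1 ∈ D := cj_mem h 1 h.hu
    have hc1 : Commute u u1 := by
      have := conj_self_comm h.hD h.adj.1 h.hu h.nadj
      have e := refl_conj h 1
      rw [h1] at e
      rwa [e] at this
    have hck : Commute u (cj x c (k : ℤ) u) := by
      have := conj_self_comm h.hD (refl_mem h k) h.hu ih
      rwa [refl_conj h] at this
    have hw1 : Commute u1 w := by
      have := commute_cj (x := x) (c := c) hck 1
      rwa [cj_cj, show (1 : ℤ) + k = ((k + 1 : ℕ) : ℤ) by push_cast; ring] at this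
    have hsq := refl_sq h ((k + 1 : ℕ) : ℤ)
    have hne : ((x * c) ^ ((k + 1 : ℕ) : ℤ) * c * u) ^ 2 ≠ 1 := fun e =>
      not_adj_of_pow_four h.hD (by rw [show 4 = 2 * 2 from rfl, pow_mul, e, one_pow]) hadj
    have hwu : Cfsg.OddAdj D w u := by
      refine ⟨cj_mem h _ h.hu, h.hu, fun e => hne ?_, ?_⟩
      · rw [hsq, ← hwdef, e, mul_self h.hD h.hu]
      · rw [hwdef, ← hsq, (Nat.coprime_two_right.mpr hadj.2.2.2).orderOf_pow]
        exact hadj.2.2.2
    have hsq1 := refl_sq h 1
    rw [h1, ← hu1] at hsq1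
    rcases sq_eq_or_mem h.hD h.adj.1 h.hu h.nadj with e | e <;> rw [hsq1] at e
    · rw [eq_inv_of_mul_eq_one_left e, inv_self h.hD h.hu] at hw1
      exact not_adj_of_commute h.hD hw1.symm hwu
    · exact ne_one h.hD hu1D
        (eq_one_of_common h.hD hwu (mul_self h.hD hu1D) hw1 hc1.symm e)

theorem comm_nat (k : ℕ) : Commute u (cj x c (k : ℤ) u) := by
  have := conj_self_comm h.hD (refl_mem h k) h.hu (nadj_refl h k)
  rwa [refl_conj h] at this

theorem comm_int (i j : ℤ) : Commute (cj x c i u) (cj x c j u) := by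
  rcases le_total i j with hle | hle
  · obtain ⟨k, hk⟩ := Int.le.dest hle
    have := commute_cj (x := x) (c := c) (comm_nat h k) i
    rwa [cj_cj, hk] at this
  · obtain ⟨k, hk⟩ := Int.le.dest hle
    have := commute_cj (x := x) (c := c) (comm_nat h k) j
    rw [cj_cj, hk] at this
    exact this.symm

/-- Products of two orbit members are `1` or members. -/
theorem mul_eq_or_mem (k : ℕ) : cj x c (k : ℤ) u * u = 1 ∨ cj x c (k : ℤ) u * u ∈ D := by
  rw [← refl_sq h]
  exact sq_eq_or_mem h.hD (refl_mem h _) h.hu (nadj_refl h k)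

theorem orb_gen (k : ℤ) : cj x c k u ∈ orb x c u := Subgroup.subset_closure ⟨k, rfl⟩

theorem mem_orb : u ∈ orb x c u := by simpa [cj_zero] using orb_gen h 0

theorem orb_comm {v w : G} (hv : v ∈ orb x c u) (hw : w ∈ orb x c u) : Commute v w := by
  have h1 : ∀ i, Commute (cj x c i u) w := by
    intro i
    have : orb x c u ≤ Subgroup.centralizer {cj x c i u} := by
      rw [orb, Subgroup.closure_le]
      rintro _ ⟨j, rfl⟩
      exact Subgroup.mem_centralizer_singleton_iff.mpr (comm_int h j i).eq
    exact (Subgroup.mem_centralizer_singleton_iff.mp (this hw)).symm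
  have : orb x c u ≤ Subgroup.centralizer {w} := by
    rw [orb, Subgroup.closure_le]
    rintro _ ⟨i, rfl⟩
    exact Subgroup.mem_centralizer_singleton_iff.mpr (h1 i).eq
  exact (Subgroup.mem_centralizer_singleton_iff.mp (this hv))

theorem orb_sq {v : G} (hv : v ∈ orb x c u) : v * v = 1 := by
  induction hv using Subgroup.closure_induction with
  | mem y hy => obtain ⟨k, rfl⟩ := hy; exact mul_self h.hD (cj_mem h k h.hu)
  | one => rw [one_mul]
  | mul a b ha hb iha ihb =>
    rw [mul_assoc, ← mul_assoc b, (orb_comm h hb ha).eq, mul_assoc, ihb, mul_one, iha]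
  | inv a _ ih => rw [← mul_inv_rev, ih, inv_one]

theorem cj_orb (i : ℤ) {v : G} (hv : v ∈ orb x c u) : cj x c i v ∈ orb x c u := by
  induction hv using Subgroup.closure_induction with
  | mem y hy => obtain ⟨k, rfl⟩ := hy; rw [cj_cj]; exact orb_gen h _
  | one => rw [cj, mul_one, mul_inv_cancel]; exact one_mem _
  | mul a b _ _ iha ihb => rw [cj_mul]; exact mul_mem iha ihb
  | inv a _ ih => rw [cj, ← conj_inv]; exact inv_mem ih

theorem c_orb {v : G} (hv : v ∈ orb x c u) : c * v * c⁻¹ ∈ orb x c u := by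
  induction hv using Subgroup.closure_induction with
  | mem y hy => obtain ⟨k, rfl⟩ := hy; rw [c_cj h]; exact orb_gen h _
  | one => rw [mul_one, mul_inv_cancel]; exact one_mem _
  | mul a b _ _ iha ihb => rw [conj_mul']; exact mul_mem iha ihb
  | inv a _ ih => rw [← conj_inv]; exact inv_mem ih

theorem x_orb {v : G} (hv : v ∈ orb x c u) : x * v * x⁻¹ ∈ orb x c u := by
  have : x * v * x⁻¹ = cj x c 1 (c * v * c⁻¹) := by
    rw [cj, zpow_one, conj_conj, mul_assoc x c c, c_self h, mul_one]
  rw [this]
  exact cj_orb h 1 (c_orb h hv)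

theorem sym_orb {v : G} (hv : v ∈ orb x c u) (j : ℕ) : sym x c v j ∈ orb x c u := by
  induction j with
  | zero => exact hv
  | succ j ih => exact mul_mem ih (mul_mem (cj_orb h _ hv) (cj_orb h _ hv))

theorem sym_cj {v : G} (i : ℤ) (j : ℕ) : sym x c (cj x c i v) j = cj x c i (sym x c v j) := by
  induction j with
  | zero => rfl
  | succ j ih =>
    rw [sym, sym, ih, cj_mul, cj_mul, cj_cj, cj_cj, cj_cj, cj_cj, add_comm _ i, add_comm _ i]

theorem sym_mul {v w : G} (hv : v ∈ orb x c u) (hw : w ∈ orb x c u) (j : ℕ) :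
    sym x c (v * w) j = sym x c v j * sym x c w j := by
  induction j with
  | zero => rfl
  | succ j ih =>
    have a1 := cj_orb h ((j : ℤ) + 1) hv
    have a2 := cj_orb h (-((j : ℤ) + 1)) hv
    have b1 := cj_orb h ((j : ℤ) + 1) hw
    rw [sym, sym, sym, ih, cj_mul, cj_mul,
      (orb_comm h b1 a2).mul_mul_mul_comm,
      (orb_comm h (sym_orb h hw j) (mul_mem a1 a2)).mul_mul_mul_comm]

/-- The key fact: the symmetric product of `u` over a full period is trivial. -/
theorem sym_self_eq_one {m : ℕ} (hm : orderOf (x * c) = 2 * m + 1) : sym x c u m = 1 := by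
  have htel : ∀ j : ℕ, cj x c 1 (sym x c u j) * cj x c (-j) u =
      sym x c u j * cj x c (j + 1) u := by
    intro j
    induction j with
    | zero =>
      simp only [Nat.cast_zero, neg_zero, zero_add, cj_zero, sym]
      exact (comm_nat h 1).symm.eq
    | succ j ih =>
      set P := sym x c u j
      set a := cj x c (-(j : ℤ)) u
      set b := cj x c ((j : ℤ) + 1) u
      set b' := cj x c ((j : ℤ) + 1 + 1) u
      set a' := cj x c (-((j : ℤ) + 1)) u
      have haa : a * a = 1 := mul_self h.hD (cj_mem h _ h.hu)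
      have e : cj x c 1 (b * a') = b' * a := by
        rw [cj_mul, cj_cj, cj_cj, show (1 : ℤ) + ((j : ℤ) + 1) = (j : ℤ) + 1 + 1 by ring,
          show (1 : ℤ) + -((j : ℤ) + 1) = -(j : ℤ) by ring]
      have eA : cj x c 1 P = P * b * a := by
        rw [← ih, mul_assoc, haa, mul_one]
      have e' : a * (b' * a) = b' := by
        rw [← mul_assoc, (comm_int h _ _).eq, mul_assoc, haa, mul_one]
      push_cast
      rw [sym, cj_mul, e, eA, mul_assoc (P * b) a, e', mul_assoc (P * b) b',
        (comm_int h _ _).eq, mul_assoc, mul_assoc, mul_assoc]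
  have hz : cj x c 1 (sym x c u m) = sym x c u m := by
    have e : cj x c ((m : ℤ) + 1) u = cj x c (-(m : ℤ)) u := by
      have : (x * c) ^ ((m : ℤ) + 1) = (x * c) ^ (-(m : ℤ)) := by
        rw [show (m : ℤ) + 1 = -(m : ℤ) + ((2 * m + 1 : ℕ) : ℤ) by push_cast; ring, zpow_add,
          zpow_natCast, ← hm, pow_orderOf_eq_one, mul_one]
      rw [cj, cj, this]
    have := htel m
    rw [e] at this
    exact mul_right_cancel this
  have hQ : ∀ j : ℕ, c * sym x c u j ∈ D ∧ c * sym x c u j * c⁻¹ = sym x c u j := by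
    intro j
    induction j with
    | zero =>
      refine ⟨?_, ?_⟩
      · show c * u ∈ D; rw [← h.comm.eq]; exact h.hm
      · show c * u * c⁻¹ = u; rw [← h.comm.eq, mul_inv_cancel_right]
    | succ j ih =>
      set P := sym x c u j
      set b := cj x c ((j : ℤ) + 1) u
      set a := cj x c (-((j : ℤ) + 1)) u
      have hPb : Commute P b := orb_comm h (sym_orb h (mem_orb h) j) (orb_gen h _)
      have hPab : Commute P (a * b) :=
        orb_comm h (sym_orb h (mem_orb h) j) (mul_mem (orb_gen h _) (orb_gen h _))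
      have hb : b * b = 1 := mul_self h.hD (cj_mem h _ h.hu)
      have hcb : c * b * c⁻¹ = a := c_cj h _
      refine ⟨?_, ?_⟩
      · have hmem := h.hD.conj_mem _ ih.1 b
        rw [inv_eq_of_mul_eq_one_right hb] at hmem
        have e : c * (P * (b * a)) = b * (c * P) * b := by
          rw [(comm_int h _ _).eq, hPab.eq, mul_assoc b (c * P) b, mul_assoc c P b, hPb.eq, ← hcb,
            inv_self h.hD h.adj.2.1]
          simp only [← mul_assoc, c_self h, one_mul]
        rw [sym, e]
        exact hmem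
      · rw [sym, conj_mul', ih.2, conj_mul', c_cj h, c_cj h, neg_neg, (comm_int h _ _).eq]
  have hxP : Commute (sym x c u m) x := by
    have hc : Commute (sym x c u m) c := by
      have := (hQ m).2
      rw [mul_inv_eq_iff_eq_mul] at this
      exact this.symm
    have hzc : Commute (sym x c u m) (x * c) := by
      rw [cj, zpow_one, mul_inv_eq_iff_eq_mul] at hz
      exact hz.symm
    have := hzc.mul_right hc
    rwa [mul_assoc, c_self h, mul_one] at this
  have hc : Commute (sym x c u m) c := by
    have := (hQ m).2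
    rw [mul_inv_eq_iff_eq_mul] at this
    exact this.symm
  exact eq_one_of_common h.hD h.adj (orb_sq h (sym_orb h (mem_orb h) m)) hxP hc
    (by rw [hc.eq]; exact (hQ m).1)

/-- Nothing in the orbit group commutes with both reflections. -/
theorem eq_one_of_fixed {v : G} (hv : v ∈ orb x c u) (hx : Commute x v) (hc : Commute c v) :
    v = 1 := by
  obtain ⟨m, hm⟩ := h.adj.2.2.2
  have h1 : ∀ j : ℕ, sym x c v j = v := by
    intro j
    induction j with
    | zero => rfl
    | succ j ih =>
      have e : ∀ k : ℤ, cj x c k v = v := fun k => by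
        rw [cj, ((hx.mul_left hc).zpow_left k).eq, mul_inv_cancel_right]
      rw [sym, ih, e, e, orb_sq h hv, mul_one]
  have h2 : ∀ w ∈ orb x c u, sym x c w m = 1 := by
    intro w hw
    induction hw using Subgroup.closure_induction with
    | mem y hy =>
      obtain ⟨k, rfl⟩ := hy
      rw [sym_cj h, sym_self_eq_one h hm, cj, mul_one, mul_inv_cancel]
    | one =>
      have := sym_mul h (one_mem (orb x c u)) (one_mem (orb x c u)) m
      rw [one_mul] at this
      exact left_eq_mul.mp this
    | mul a b ha hb iha ihb => rw [sym_mul h ha hb, iha, ihb, one_mul]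
    | inv a ha ih => rw [inv_eq_of_mul_eq_one_right (orb_sq h ha)]; exact ih
  rw [← h1 m]
  exact h2 v hv

/-- An element commuting with all the paired products commutes with `u`. -/
theorem commute_of_pairs {a : G} (ha : ∀ k : ℤ, Commute a (cj x c k u * cj x c (-k) u)) :
    Commute a u := by
  obtain ⟨m, hm⟩ := h.adj.2.2.2
  have h1 : ∀ j : ℕ, Commute a (u⁻¹ * sym x c u j) := by
    intro j
    induction j with
    | zero => rw [sym, inv_mul_cancel]; exact Commute.one_right a
    | succ j ih => rw [sym, ← mul_assoc]; exact ih.mul_right (ha _)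
  have := h1 m
  rw [sym_self_eq_one h hm, mul_one] at this
  exact Commute.inv_right_iff.mp this

/-- Orbit members are never adjacent to `c`. -/
theorem nadj_center (k : ℤ) : ¬ Cfsg.OddAdj D c (cj x c k u) := by
  refine not_adj_of_pow_four h.hD ?_
  have e : (c * cj x c k u) ^ 2 = cj x c (-k) u * cj x c k u := by
    rw [sq, ← c_cj h, inv_self h.hD h.adj.2.1]; simp only [mul_assoc]
  rw [show 4 = 2 * 2 from rfl, pow_mul, e, (comm_int h _ _).mul_pow, sq, sq,
    mul_self h.hD (cj_mem h _ h.hu), mul_self h.hD (cj_mem h _ h.hu), one_mul]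

theorem nadj_center_mul (k : ℕ) : ¬ Cfsg.OddAdj D c (cj x c (k : ℤ) u * u) := by
  refine not_adj_of_pow_four h.hD ?_
  set w := cj x c (k : ℤ) u * u
  have hw : w ∈ orb x c u := mul_mem (orb_gen h _) (mem_orb h)
  have e : (c * w) ^ 2 = c * w * c⁻¹ * w := by
    rw [sq, inv_self h.hD h.adj.2.1]; simp only [mul_assoc]
  rw [show 4 = 2 * 2 from rfl, pow_mul, e, sq]
  exact orb_sq h (mul_mem (c_orb h hw) hw)

end Cfsg.Agent.Lib.RootInv12.Orbit
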