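import Cfsg.Agent.Lib.RootInv12.Orbit

/-!
# Root involutions: every line has exact movers

If `d, e` commute with `d * e ∈ D` and some member is adjacent to `e` but not to `d`, then some
member `t` has `(t * e) ^ 2 = d`.
-/

set_option autoImplicit false
set_option linter.unusedSectionVars false

namespace Cfsg.Agent.Lib.RootInv12

open Cfsg.Agent.Lib.Elem70.RootInvolutions Orbit

variable {G : Type*} [Group G] {D : Set G} {x c u : G}

/-- The candidates for the iteration. -/
structure Cand (D : Set G) (x c u v : G) : Prop where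
  mem : v ∈ D
  orb : v ∈ orb x c u
  comm : Commute c v
  hm : v * c ∈ D
  nadj : ¬ Cfsg.OddAdj D x v

/-- One step of the iteration. -/
def step (x c v : G) : G := ((x * v) ^ 2 * c) ^ 2

theorem cand_self (h : Cfg D x c u) : Cand D x c u u :=
  ⟨h.hu, mem_orb h, h.comm.symm, h.hm, h.nadj⟩

variable (h : Cfg D x c u)
include h

theorem cand_props {v : G} (hv : Cand D x c u v) :
    (x * v) ^ 2 ∈ D ∧ (x * v) ^ 2 ∈ orb x c u ∧ Commute x ((x * v) ^ 2) ∧
      orderOf ((x * v) ^ 2 * c) = 4 ∧ Cand D x c u (step x c v) := by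
  have hD := h.hD
  have hxv : ¬ Commute x v := fun hc' => ne_one hD hv.mem
    (eq_one_of_common hD h.adj (mul_self hD hv.mem) hc'.symm hv.comm.symm hv.hm)
  obtain ⟨h4, hgD⟩ := four_of_not_adj hD h.adj.1 hv.mem hv.nadj hxv
  have hgP := sq_mem_productPartners hD h.adj.1 hv.mem h4 hgD
  set g := (x * v) ^ 2 with hg
  have hxg : Commute x g := hgP.1.2.1.symm
  have hgorb : g ∈ orb x c u := by
    rw [hg, sq, show x * v * (x * v) = x * v * x⁻¹ * v by
      rw [inv_self hD h.adj.1]; simp only [mul_assoc]]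
    exact mul_mem (x_orb h hv.orb) hv.orb
  have hcc : Commute g (c * g * c⁻¹) := orb_comm h hgorb (c_orb h hgorb)
  have hp : (c * g) ^ 4 = 1 := by
    have e : (c * g) ^ 2 = c * g * c⁻¹ * g := by
      rw [sq, inv_self hD h.adj.2.1]; simp only [mul_assoc]
    rw [show 4 = 2 * 2 from rfl, pow_mul, e, sq]
    exact orb_sq h (mul_mem (c_orb h hgorb) hgorb)
  have hna : ¬ Cfsg.OddAdj D g c := fun ha =>
    not_adj_of_pow_four hD hp (adj_symm hD ha)
  have hgc : ¬ Commute g c := fun hc' => ne_one hD hgD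
    (eq_one_of_fixed h hgorb hxg hc'.symm)
  obtain ⟨h4', hhD⟩ := four_of_not_adj hD hgD h.adj.2.1 hna hgc
  set w := (g * c) ^ 2 with hw
  have hwe : w = g * (c * g * c⁻¹) := by
    rw [hw, sq, inv_self hD h.adj.2.1]
    have := hcc.eq
    rw [inv_self hD h.adj.2.1] at this
    simp only [mul_assoc] at this ⊢
  have hworb : w ∈ orb x c u := hwe ▸ mul_mem hgorb (c_orb h hgorb)
  have hp' : (g * c) ^ 4 = 1 := by rw [← h4', pow_orderOf_eq_one]
  have hs := sq_comm_of_pow_four (mul_self hD hgD) (mul_self hD h.adj.2.1) hp'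
  have hwc : Commute c w := by
    show c * w = w * c
    conv_rhs => rw [hw, ← hs]
    rw [hw]
    simp only [sq, mul_assoc]
  have hwcD : w * c ∈ D := by
    have e : w * c = g * c * g⁻¹ := by
      rw [hw, sq, inv_self hD hgD, ← mul_assoc, mul_assoc (g * c * g) c c, c_self h, mul_one]
    rw [e]
    exact hD.conj_mem c h.adj.2.1 g
  have hgwD : g * w ∈ D := by
    have e : g * w = c * g * c⁻¹ := by
      rw [hwe, ← mul_assoc, mul_self hD hgD, one_mul]
    rw [e]
    exact hD.conj_mem g hgD c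
  refine ⟨hgD, hgorb, hxg, h4', ⟨hhD, hworb, hwc, hwcD, fun ha => ?_⟩⟩
  exact ne_one hD hgD (eq_one_of_common hD ha (mul_self hD hgD) hxg.symm
    (orb_comm h hgorb hworb) hgwD)

theorem step_injective {v v' : G} (hv : Cand D x c u v) (hv' : Cand D x c u v')
    (e : step x c v = step x c v') : v = v' := by
  obtain ⟨hg, hgo, hgx, -, -⟩ := cand_props h hv
  obtain ⟨hg', hgo', hgx', -, -⟩ := cand_props h hv'
  set g := (x * v) ^ 2 with hgd
  set g' := (x * v') ^ 2 with hgd'
  have hD := h.hD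
  have key : ∀ g : G, g ∈ orb x c u → (g * c) ^ 2 = g * (c * g * c⁻¹) := fun g _ => by
    rw [sq, inv_self hD h.adj.2.1]; simp only [mul_assoc]
  unfold step at e
  rw [← hgd, ← hgd', key g hgo, key g' hgo'] at e
  have h1 : g * g' = 1 := by
    refine eq_one_of_fixed h (mul_mem hgo hgo') (hgx.mul_right hgx') ?_
    have e2 : c * (g * g') * c⁻¹ = g * g' := by
      rw [conj_mul']
      have e3 : c * g * c⁻¹ = g * (g' * (c * g' * c⁻¹)) := by
        rw [← e, ← mul_assoc, orb_sq h hgo, one_mul]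
      rw [e3, mul_assoc, mul_assoc, orb_sq h (c_orb h hgo'), mul_one]
    show c * (g * g') = g * g' * c
    exact mul_inv_eq_iff_eq_mul.mp e2
  have hgg : g = g' := by
    rw [eq_inv_of_mul_eq_one_left h1, inv_eq_of_mul_eq_one_right (orb_sq h hgo')]
  have h2 : v * v' = 1 := by
    refine eq_one_of_fixed h (mul_mem hv.orb hv'.orb) ?_ (hv.comm.mul_right hv'.comm)
    have e2 : ∀ w : G, w ∈ orb x c u → x * w * x⁻¹ = (x * w) ^ 2 * w := fun w hw => by
      rw [sq, inv_self hD h.adj.1, mul_assoc (x * w) (x * w) w, mul_assoc x w w, orb_sq h hw,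
        mul_one]
    have e3 : x * (v * v') * x⁻¹ = v * v' := by
      rw [conj_mul', e2 v hv.orb, e2 v' hv'.orb, ← hgd, ← hgd', ← hgg,
        ((orb_comm h hv.orb hgo)).mul_mul_mul_comm, orb_sq h hgo, one_mul]
    show x * (v * v') = v * v' * x
    exact mul_inv_eq_iff_eq_mul.mp e3
  rw [eq_inv_of_mul_eq_one_left h2, inv_eq_of_mul_eq_one_right (orb_sq h hv'.orb)]

/-- The exact mover. -/
theorem exists_mover [Finite G] :
    ∃ t ∈ D, orderOf (t * c) = 4 ∧ (t * c) ^ 2 = u := by
  let φ : {v : G // Cand D x c u v} → {v : G // Cand D x c u v} := fun v =>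
    ⟨step x c v.1, (cand_props h v.2).2.2.2.2⟩
  have hinj : Function.Injective φ := fun v v' e =>
    Subtype.ext (step_injective h v.2 v'.2 (congrArg Subtype.val e))
  obtain ⟨⟨v, hv⟩, e⟩ := Finite.injective_iff_surjective.mp hinj ⟨u, cand_self h⟩
  obtain ⟨hg, -, -, h4, -⟩ := cand_props h hv
  exact ⟨(x * v) ^ 2, hg, h4, congrArg Subtype.val e⟩

end Cfsg.Agent.Lib.RootInv12
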