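import Cfsg.Agent.Lib.RootInv12.Orbit

/-!
# Root involutions: members with the same non-neighbours commute with the same members
-/

set_option autoImplicit false
set_option linter.unusedSectionVars false

namespace Cfsg.Agent.Lib.RootInv12

open Cfsg.Agent.Lib.Elem70.RootInvolutions
open scoped commutatorElement

variable {G : Type*} [Group G] {D : Set G}

/-- The set of neighbours. -/
def nbrs (D : Set G) (y : G) : Set G := {x | Cfsg.OddAdj D x y}

theorem mem_nbrs {x y : G} : x ∈ nbrs D y ↔ Cfsg.OddAdj D x y := Iff.rfl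

variable (hD : Cfsg.IsRootInvolutionSet D)
include hD

theorem nbrs_conj (g y : G) : nbrs D (g * y * g⁻¹) = (fun x => g * x * g⁻¹) '' nbrs D y := by
  ext x
  constructor
  · intro hx
    refine ⟨g⁻¹ * x * g, ?_, by group⟩
    have := adj_conj hD hx g⁻¹
    rw [conj_conj] at this
    show Cfsg.OddAdj D _ y
    simpa using this
  · rintro ⟨x', hx', rfl⟩
    exact adj_conj hD hx' g

theorem nbrs_conj_congr {k f : G} (e : nbrs D k = nbrs D f) (g : G) :
    nbrs D (g * k * g⁻¹) = nbrs D (g * f * g⁻¹) := by rw [nbrs_conj hD, nbrs_conj hD, e]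

theorem nbrs_eq_of_subset [Finite G] (hcl : ∀ a ∈ D, ∀ b ∈ D, ∃ g, b = g * a * g⁻¹) {a b : G}
    (ha : a ∈ D) (hb : b ∈ D) (hs : nbrs D a ⊆ nbrs D b) : nbrs D a = nbrs D b := by
  refine Set.eq_of_subset_of_ncard_le hs ?_ (Set.toFinite _)
  obtain ⟨g, rfl⟩ := hcl a ha b hb
  rw [nbrs_conj hD, Set.ncard_image_of_injective _ (conj_injective g)]

theorem exists_adj_not_adj [Finite G] (hcl : ∀ a ∈ D, ∀ b ∈ D, ∃ g, b = g * a * g⁻¹) {a b : G}
    (ha : a ∈ D) (hb : b ∈ D) (hne : nbrs D a ≠ nbrs D b) :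
    ∃ x, Cfsg.OddAdj D x a ∧ ¬ Cfsg.OddAdj D x b := by
  by_contra hcon
  push Not at hcon
  exact hne (nbrs_eq_of_subset hD hcl ha hb fun x hx => hcon x hx)

/-- The square of a product of order four of two members with the same neighbours again has
the same neighbours. -/
theorem nbrs_sq [Finite G] (hcl : ∀ a ∈ D, ∀ b ∈ D, ∃ g, b = g * a * g⁻¹) {a b : G}
    (ha : a ∈ D) (hb : b ∈ D) (h4 : orderOf (a * b) = 4) (hm : (a * b) ^ 2 ∈ D)
    (e : nbrs D (b * a * b⁻¹) = nbrs D a) : nbrs D ((a * b) ^ 2) = nbrs D a := by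
  have hP := sq_mem_productPartners hD ha hb h4 hm
  have e2 : a * (a * b) ^ 2 = b * a * b⁻¹ := by
    rw [inv_self hD hb]
    simp only [sq, ← mul_assoc, mul_self hD ha, one_mul]
  refine nbrs_eq_of_subset hD hcl hm ha fun x hx => ?_
  rcases line_lemma hD hm (productPartners_symm hD ha hP) hx with h1 | h1
  · exact h1
  · rw [e2] at h1
    rw [← e]
    exact h1

/-- The members having the neighbours of a given one. -/
def block (D : Set G) (a : G) : Set G := {y | y ∈ D ∧ nbrs D y = nbrs D a}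

theorem nadj_block {a k l : G} (hk : k ∈ block D a) (hl : l ∈ block D a) :
    ¬ Cfsg.OddAdj D k l := fun hadj => by
  have : k ∈ nbrs D k := by
    rw [hk.2, ← hl.2]; exact hadj
  exact this.2.2.1 rfl

theorem block_conj {a k l : G} (hk : k ∈ block D a) (hl : l ∈ block D a) :
    k * l * k⁻¹ ∈ block D a := by
  refine ⟨hD.conj_mem l hl.1 k, ?_⟩
  rw [nbrs_conj_congr hD (hl.2.trans hk.2.symm) k, mul_inv_cancel_right, hk.2]

theorem block_sq [Finite G] (hcl : ∀ a ∈ D, ∀ b ∈ D, ∃ g, b = g * a * g⁻¹) {a k l : G}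
    (hk : k ∈ block D a) (hl : l ∈ block D a) (h4 : orderOf (k * l) = 4)
    (hm : (k * l) ^ 2 ∈ D) : (k * l) ^ 2 ∈ block D a :=
  ⟨hm, (nbrs_sq hD hcl hk.1 hl.1 h4 hm
    ((block_conj hD hl hk).2.trans hk.2.symm)).trans hk.2⟩

/-- Members of one block commute, in a single class. -/
theorem block_commute [Finite G] (hcl : ∀ a ∈ D, ∀ b ∈ D, ∃ g, b = g * a * g⁻¹) {a b : G}
    (ha : a ∈ D) (hb : b ∈ block D a) : Commute a b := by
  by_contra hab
  have haB : a ∈ block D a := ⟨ha, rfl⟩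
  obtain ⟨h4, hm⟩ := four_of_not_adj hD ha hb.1 (nadj_block hD haB hb) hab
  have hf := block_sq hD hcl haB hb h4 hm
  set f := (a * b) ^ 2 with hfdef
  set K := block D a with hK
  set Q := Subgroup.closure K with hQ
  let K' : Set ↥Q := {q | (q : G) ∈ K}
  have hKQ : ∀ k ∈ K, k ∈ Q := fun k hk => Subgroup.subset_closure hk
  have hconjQ : ∀ q ∈ Q, ∀ k ∈ K, q * k * q⁻¹ ∈ K := by
    intro q hq
    induction hq using Subgroup.closure_induction'' with
    | mem y hy => exact fun k hk => block_conj hD hy hk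
    | inv_mem y hy =>
      intro k hk
      rw [inv_self hD hy.1]
      have := block_conj hD hy hk
      rwa [inv_self hD hy.1] at this ⊢
    | one => intro k hk; simpa using hk
    | mul p q _ _ ihp ihq => intro k hk; rw [← conj_conj]; exact ihp _ (ihq k hk)
  have hD' : Cfsg.IsRootInvolutionSet K' := by
    refine ⟨fun q hq => ?_, ?_, fun q hq g => ?_, fun p hp q hq => ?_⟩
    · rw [← Subgroup.orderOf_coe]; exact hD.orderOf_eq _ hq.1
    · exact Subgroup.closure_closure_coe_preimage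
    · exact hconjQ g g.2 q hq
    · rcases hD.pair _ hp.1 _ hq.1 with h1 | h1 | ⟨h1, h2⟩
      · exact Or.inl (Subtype.ext h1)
      · exact Or.inr (Or.inl (by rwa [← Subgroup.orderOf_coe]))
      · refine Or.inr (Or.inr ⟨by rwa [← Subgroup.orderOf_coe], ?_⟩)
        exact block_sq hD hcl hp hq h1 h2
  have hiso : ∀ q ∈ K', q ∈ Cfsg.pCore 2 ↥Q := fun q hq => by
    refine isolated_mem_pCore hD' ((isolated_iff hD').mpr ⟨hq, fun r hr => ?_⟩)
    refine nadj_block hD hr.1 hr.2.1 ⟨hr.1.1, hr.2.1.1, fun e => hr.2.2.1 (Subtype.ext e), ?_⟩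
    have := hr.2.2.2
    rwa [← Subgroup.orderOf_coe] at this
  have h2 : IsPGroup 2 ↥Q := by
    have : (⊤ : Subgroup ↥Q) ≤ Cfsg.pCore 2 ↥Q := by
      rw [← hD'.generates, Subgroup.closure_le]; exact hiso
    intro g
    obtain ⟨k, hk⟩ := Lib.PSolvable.isPGroup_pCore (p := 2) ⟨g, this trivial⟩
    exact ⟨k, congrArg Subtype.val hk⟩
  haveI : Nontrivial ↥Q :=
    ⟨⟨a, hKQ a haB⟩, 1, fun e => ne_one hD ha (congrArg Subtype.val e)⟩
  have hfe : f = a * b * a⁻¹ * b⁻¹ := by
    rw [hfdef, sq, inv_self hD ha, inv_self hD hb.1]; simp only [mul_assoc]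
  have htop : commutator ↥Q = ⊤ := by
    rw [eq_top_iff, ← hD'.generates, Subgroup.closure_le]
    intro k hk
    obtain ⟨g, hg⟩ := hcl f hf.1 k hk.1
    have hgK : ∀ y ∈ K, g * y * g⁻¹ ∈ K := fun y hy => by
      refine ⟨hD.conj_mem y hy.1 g, ?_⟩
      rw [nbrs_conj_congr hD (hy.2.trans hf.2.symm) g, ← hg, hk.2]
    have he : k = ⁅(⟨g * a * g⁻¹, hKQ _ (hgK a haB)⟩ : ↥Q),
        ⟨g * b * g⁻¹, hKQ _ (hgK b hb)⟩⁆ := by
      apply Subtype.ext
      show (k : G) = g * a * g⁻¹ * (g * b * g⁻¹) * (g * a * g⁻¹)⁻¹ * (g * b * g⁻¹)⁻¹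
      rw [hg, hfe]; group
    rw [he]
    exact Subgroup.commutator_mem_commutator (Subgroup.mem_top _) (Subgroup.mem_top _)
  haveI : Group.IsNilpotent ↥Q := h2.isNilpotent
  exact (Group.IsSolvable.commutator_lt_top_of_nontrivial ↥Q).ne htop

/-- In a single class, members with the same neighbours commute with the same members. -/
theorem commute_of_nbrs_eq [Finite G] (hcl : ∀ a ∈ D, ∀ b ∈ D, ∃ g, b = g * a * g⁻¹) {a c b : G}
    (ha : a ∈ D) (hc : c ∈ D) (he : nbrs D a = nbrs D c) (hb : b ∈ D) (hbc : Commute b c) :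
    Commute b a := by
  by_contra hba
  have hn : ¬ Cfsg.OddAdj D a b := fun hadj => by
    have h1 : b ∈ nbrs D c := by rw [← he]; exact adj_symm hD hadj
    exact not_adj_of_commute hD hbc h1
  obtain ⟨h4, hm⟩ := four_of_not_adj hD ha hb hn (fun h => hba h.symm)
  have hbb : nbrs D (b * a * b⁻¹) = nbrs D a := by
    rw [nbrs_conj_congr hD he b, hbc.eq, mul_inv_cancel_right, he]
  have hf : nbrs D ((a * b) ^ 2) = nbrs D a := nbrs_sq hD hcl ha hb h4 hm hbb
  set f := (a * b) ^ 2 with hfdef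
  by_cases hs : nbrs D a ⊆ nbrs D b
  · exact hba (block_commute hD hcl ha ⟨hb, (nbrs_eq_of_subset hD hcl ha hb hs).symm⟩).symm
  obtain ⟨x, hxa, hxb⟩ := Set.not_subset.mp hs
  have hfb : Commute f b := by
    have h4' : orderOf (b * a) = 4 := by
      rw [← inv_self hD hb, ← inv_self hD ha, ← mul_inv_rev, orderOf_inv, h4]
    have hp : (a * b) ^ 4 = 1 := by rw [← h4, pow_orderOf_eq_one]
    have hsym := sq_comm_of_pow_four (mul_self hD ha) (mul_self hD hb) hp
    have := (sq_mem_productPartners hD hb ha h4' (hsym ▸ hm)).1.2.1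
    rw [hsym] at this
    exact this
  have hbf : b * f ∈ D := by
    have e : b * f = a * b * a⁻¹ := by
      have hp : (a * b) ^ 4 = 1 := by rw [← h4, pow_orderOf_eq_one]
      rw [hfdef, ← sq_comm_of_pow_four (mul_self hD ha) (mul_self hD hb) hp, inv_self hD ha]
      simp only [sq, ← mul_assoc, mul_self hD hb, one_mul]
    rw [e]
    exact hD.conj_mem b hb a
  have hxf : Cfsg.OddAdj D x f := by rw [← mem_nbrs, hf]; exact hxa
  have hcfg : Orbit.Cfg D x f b := ⟨hD, hb, hfb.symm, hbf, hxf, hxb⟩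
  refine hba (Orbit.commute_of_pairs hcfg fun k => ?_).symm
  have hna : ∀ y : G, ¬ Cfsg.OddAdj D f y → ¬ Cfsg.OddAdj D a y := fun y h1 h2 =>
    h1 (adj_symm hD (show y ∈ nbrs D f by rw [hf]; exact adj_symm hD h2))
  set w := Orbit.cj x f k b with hwdef
  have hw : w ∈ D := Orbit.cj_mem hcfg k hb
  have haw : (a * w) ^ 4 = 1 :=
    pow_four_of_not_adj hD ha hw (hna _ (Orbit.nadj_center hcfg k))
  have hbw : Commute b w := Orbit.orb_comm hcfg (Orbit.mem_orb hcfg) (Orbit.orb_gen hcfg k)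
  have haz : (a * (b * w)) ^ 4 = 1 := by
    obtain ⟨j, hj⟩ : ∃ j : ℕ, Orbit.cj x f (j : ℤ) b = w := by
      obtain ⟨j, hj⟩ : (x * f) ^ k ∈ Submonoid.powers (x * f) :=
        mem_powers_iff_mem_zpowers.mpr ⟨k, rfl⟩
      exact ⟨j, by rw [hwdef, Orbit.cj, Orbit.cj, zpow_natCast]; simp only at hj; rw [hj]⟩
    rw [hbw.eq, ← hj]
    rcases Orbit.mul_eq_or_mem hcfg j with e | e
    · rw [e, mul_one, show 4 = 2 * 2 from rfl, pow_mul, sq a, mul_self hD ha, one_pow]
    · exact pow_four_of_not_adj hD ha e (hna _ (Orbit.nadj_center_mul hcfg j))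
  have hpair : w * (a * b) ^ 2 * w * (a * b) ^ 2 = Orbit.cj x f k b * Orbit.cj x f (-k) b := by
    rw [← Orbit.c_cj hcfg, ← hwdef, ← hfdef, inv_self hD hxf.2.1]
    simp only [mul_assoc]
  rw [← hpair]
  refine Orbit.comm_of_square (mul_self hD ha) (mul_self hD hb) (mul_self hD hw) hbw.eq
    (by rw [← h4, pow_orderOf_eq_one]) haw haz ?_
  rw [hpair]
  exact Orbit.orb_sq hcfg (mul_mem (Orbit.orb_gen hcfg _) (Orbit.orb_gen hcfg _))

end Cfsg.Agent.Lib.RootInv12
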